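import Groth.Agent.Lib.Euler.AmpleCurve
import Groth.Agent.Lib.Euler.SectionKill
import Groth.Agent.Lib.Ample.CocTensor
import Groth.Agent.Lib.OX.Exact
import Groth.Agent.Lib.QCoh.DevissageSummands

/-!
# The Koszul sequence of two sections without common zeros
-/

set_option autoImplicit false
set_option backward.isDefEq.respectTransparency false

universe u

open CategoryTheory CategoryTheory.Limits AlgebraicGeometry TopologicalSpace Opposite

noncomputable section

namespace GrothLib.JumpP1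

open GrothLib.Ample (Cocycle res)
open GrothLib.QCoh (stalkLin)
open GrothLib.Euler (mulSec)

variable {X : Scheme.{u}} (c : Cocycle X)

/-- The power of a section of `O(1)`. -/
def powS (a : c.sect 1 ⊤) (m : ℕ) : c.sect m ⊤ :=
  ⟨fun i => a.1 i ^ m, fun i j W hi hj => by
    simp only [map_pow, c.sect_spec a i j hi hj, mul_pow, ← pow_mul, pow_one, one_mul]⟩

theorem mem_locus_powS (a : c.sect 1 ⊤) (m : ℕ) {x : X} (hx : x ∈ c.locus a) : x ∈ c.locus (powS c a m) := by
  obtain ⟨i, hi⟩ := c.exists_mem x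
  rw [c.mem_locus_iff_isUnit _ hi] at hx ⊢
  show IsUnit (X.presheaf.germ (⊤ ⊓ c.D i) x ⟨trivial, hi⟩ (a.1 i ^ m))
  rw [map_pow]
  exact hx.pow m

theorem mem_locus_mul {n m : ℕ} (a : c.sect n ⊤) (b : c.sect m ⊤) {x : X} (ha : x ∈ c.locus a)
    (hb : x ∈ c.locus b) : x ∈ c.locus (c.mul a b) := by
  obtain ⟨i, hi⟩ := c.exists_mem x
  rw [c.mem_locus_iff_isUnit _ hi] at ha hb ⊢
  show IsUnit (X.presheaf.germ (⊤ ⊓ c.D i) x ⟨trivial, hi⟩ (a.1 i * b.1 i))
  rw [map_mul]
  exact ha.mul hb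

theorem bijective_stalk_hom {n : ℕ} (a : c.sect n ⊤) {x : X} (hx : x ∈ c.locus a) :
    Function.Bijective (stalkLin (c.hom a) x) :=
  Euler.stalkLin_bijective_of_app_bijective _ hx fun _ hT => c.bijective_hom_app a hT

/-- Two maps out of the structure module agree when they agree on pieces. -/
theorem hom_comp_mulSec {N n : ℕ} (a : c.sect N ⊤) (b : c.sect n ⊤) :
    c.hom b ≫ mulSec c a n = c.hom (c.mul a b) := by
  obtain ⟨d, hd⟩ := c.exists_hom_eq (c.hom b ≫ mulSec c a n)
  rw [← hd]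
  refine congrArg c.hom (c.sect_ext fun i => ?_)
  have h1 : (show c.sect (N + n) (c.D i) from (c.hom d).val.app (op (c.D i)) (1 : Γ(X, c.D i))) =
      (show c.sect (N + n) (c.D i) from (mulSec c a n).app (c.D i) ((c.hom b).val.app (op (c.D i)) (1 : Γ(X, c.D i)))) := by
    rw [hd]; rfl
  rw [c.hom_app_one, c.hom_app_one] at h1
  rw [c.eq_smul_base i le_rfl (c.sectRes le_top b), Scheme.Modules.Hom.app_smul, Euler.mulSec_base] at h1
  change c.sectRes (le_top : c.D i ≤ ⊤) d =
    (res (le_inf le_rfl le_rfl : c.D i ≤ c.D i ⊓ c.D i) ((c.sectRes (le_top : c.D i ≤ ⊤) b).1 i) •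
      (res (le_inf le_top le_rfl : c.D i ≤ ⊤ ⊓ c.D i) (a.1 i) • c.base (N + n) i le_rfl) : c.sect (N + n) (c.D i)) at h1
  have h2 := congrArg (fun t : c.sect (N + n) (c.D i) => res (le_inf (inf_le_right) inf_le_right :
      (⊤ ⊓ c.D i : X.Opens) ≤ c.D i ⊓ c.D i) (t.1 i)) h1
  simpa [Cocycle.sectRes_apply, Cocycle.smul_apply, Cocycle.base_self, Cocycle.mul_apply, GrothLib.Ample.res_res,
    GrothLib.Ample.res_self, mul_comm] using h2

theorem hom_comp_eqToHom {p q : ℕ} (h : p = q) (a : c.sect p ⊤) (b : c.sect q ⊤) (hab : ∀ i, a.1 i = b.1 i) :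
    c.hom a ≫ eqToHom (congrArg c.twist h) = c.hom b := by
  subst h
  rw [eqToHom_refl, Category.comp_id, c.sect_ext hab]

theorem bijective_stalk_mulSec {N n : ℕ} (a : c.sect N ⊤) (b : c.sect n ⊤) {x : X} (ha : x ∈ c.locus a)
    (hb : x ∈ c.locus b) : Function.Bijective (stalkLin (mulSec c a n) x) := by
  have h1 := bijective_stalk_hom c b hb
  have h2 := bijective_stalk_hom c _ (mem_locus_mul c a b ha hb)
  have e : ⇑(stalkLin (c.hom (c.mul a b)) x) = ⇑(stalkLin (mulSec c a n) x) ∘ ⇑(stalkLin (c.hom b) x) := by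
    funext z
    rw [← hom_comp_mulSec c a b, QCoh.stalkLin_comp]
    rfl
  rw [e] at h2
  exact (Function.Bijective.of_comp_iff _ h1).1 h2

theorem bijective_stalk_comp_eqToHom {M : X.Modules} {A B : X.Modules} (h : A = B) (f : M ⟶ A) {x : X}
    (hf : Function.Bijective (stalkLin f x)) : Function.Bijective (stalkLin (f ≫ eqToHom h) x) := by
  subst h
  rwa [eqToHom_refl, Category.comp_id]

/-- A commutative square of maps with a common point of invertibility of opposite sides gives a short exact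
sequence. -/
theorem shortExact_square {A B C D : X.Modules} (P : A ⟶ B) (Q : A ⟶ C) (R : B ⟶ D) (S : C ⟶ D)
    (w : biprod.lift P Q ≫ biprod.desc R (-S) = 0)
    (h : ∀ x : X, (Function.Bijective (stalkLin P x) ∧ Function.Bijective (stalkLin S x)) ∨
      (Function.Bijective (stalkLin Q x) ∧ Function.Bijective (stalkLin R x))) :
    (ShortComplex.mk (biprod.lift P Q) (biprod.desc R (-S)) w).ShortExact := by
  have w' : P ≫ R = Q ≫ S := by
    rw [← sub_eq_zero]
    simpa [biprod.lift_desc, sub_eq_add_neg] using w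
  rw [OX.shortExact_iff]
  intro x
  let L : A.presheaf.stalk x →ₗ[X.presheaf.stalk x] (B ⊞ C).presheaf.stalk x := stalkLin (biprod.lift P Q) x
  let Dd : (B ⊞ C).presheaf.stalk x →ₗ[X.presheaf.stalk x] D.presheaf.stalk x := stalkLin (biprod.desc R (-S)) x
  let p1 : (B ⊞ C).presheaf.stalk x →ₗ[X.presheaf.stalk x] B.presheaf.stalk x := stalkLin biprod.fst x
  let p2 : (B ⊞ C).presheaf.stalk x →ₗ[X.presheaf.stalk x] C.presheaf.stalk x := stalkLin biprod.snd x
  let i1 : B.presheaf.stalk x →ₗ[X.presheaf.stalk x] (B ⊞ C).presheaf.stalk x := stalkLin biprod.inl x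
  let i2 : C.presheaf.stalk x →ₗ[X.presheaf.stalk x] (B ⊞ C).presheaf.stalk x := stalkLin biprod.inr x
  have e1 : ∀ a, p1 (L a) = stalkLin P x a := fun a => by
    rw [← QCoh.stalkLin_comp, biprod.lift_fst]
  have e2 : ∀ a, p2 (L a) = stalkLin Q x a := fun a => by
    rw [← QCoh.stalkLin_comp, biprod.lift_snd]
  have etot : ∀ z, i1 (p1 z) + i2 (p2 z) = z := fun z => by
    rw [← QCoh.stalkLin_comp, ← QCoh.stalkLin_comp, ← QCoh.stalkLin_add, biprod.total]
    exact QCoh.stalkLin_id _ x z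
  have eL : ∀ a, L a = i1 (stalkLin P x a) + i2 (stalkLin Q x a) := fun a => by
    rw [← e1, ← e2, etot]
  have d1 : ∀ b, Dd (i1 b) = stalkLin R x b := fun b => by
    rw [← QCoh.stalkLin_comp, biprod.inl_desc]
  have d2 : ∀ b, Dd (i2 b) = -stalkLin S x b := fun b => by
    rw [← QCoh.stalkLin_comp, biprod.inr_desc, Euler.stalkLin_neg]
  have ew : ∀ a, stalkLin R x (stalkLin P x a) = stalkLin S x (stalkLin Q x a) := fun a => by
    rw [← QCoh.stalkLin_comp, ← QCoh.stalkLin_comp, w']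
  have hinj : Function.Injective L := by
    rcases h x with ⟨hP, -⟩ | ⟨hQ, -⟩
    · exact fun a b hab => hP.1 (by rw [← e1, ← e1, hab])
    · exact fun a b hab => hQ.1 (by rw [← e2, ← e2, hab])
  have hsurj : Function.Surjective Dd := fun d => by
    rcases h x with ⟨-, hS⟩ | ⟨-, hR⟩
    · obtain ⟨b, hb⟩ := hS.2 d
      exact ⟨-i2 b, by rw [map_neg, d2, neg_neg, hb]⟩
    · obtain ⟨b, hb⟩ := hR.2 d
      exact ⟨i1 b, by rw [d1, hb]⟩
  have hex : Function.Exact L Dd := fun z => by
    constructor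
    · intro hz
      rw [← etot z, map_add, d1, d2, add_neg_eq_zero] at hz
      rcases h x with ⟨hP, hS⟩ | ⟨hQ, hR⟩
      · obtain ⟨a, ha⟩ := hP.2 (p1 z)
        refine ⟨a, ?_⟩
        rw [eL, ha, hS.1 (show stalkLin S x (stalkLin Q x a) = stalkLin S x (p2 z) by rw [← ew, ha, hz]), etot]
      · obtain ⟨a, ha⟩ := hQ.2 (p2 z)
        refine ⟨a, ?_⟩
        rw [eL, ha, hR.1 (show stalkLin R x (stalkLin P x a) = stalkLin R x (p1 z) by rw [ew, ha, hz]), etot]
    · rintro ⟨a, rfl⟩
      rw [eL, map_add, d1, d2, ew, add_neg_cancel]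
  refine { exact := ?_, mono_f := ?_, epi_g := ?_ }
  · rw [ShortComplex.ShortExact.moduleCat_exact_iff_function_exact]
    exact hex
  · exact (ModuleCat.mono_iff_injective _).2 hinj
  · exact (ModuleCat.epi_iff_surjective _).2 hsurj

variable (α : c.sect 1 ⊤) (β : c.sect 1 ⊤) (m : ℕ)

/-- The Koszul sequence `0 → O → O(1) ⊕ O(m) → O(m+1) → 0`. -/
theorem exists_koszul (hcov : ∀ x : X, x ∈ c.locus α ∨ x ∈ c.locus β) :
    ∃ (g : c.twist 1 ⊞ c.twist m ⟶ c.twist (m + 1))
      (w : biprod.lift (c.hom α) (c.hom (powS c β m)) ≫ g = 0),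
      (ShortComplex.mk (biprod.lift (c.hom α) (c.hom (powS c β m))) g w).ShortExact := by
  let R := mulSec c (powS c β m) 1
  let S := mulSec c α m ≫ eqToHom (congrArg c.twist (Nat.add_comm 1 m))
  have w : biprod.lift (c.hom α) (c.hom (powS c β m)) ≫ biprod.desc R (-S) = 0 := by
    rw [biprod.lift_desc, Preadditive.comp_neg, add_neg_eq_zero, ← Category.assoc, hom_comp_mulSec, hom_comp_mulSec]
    exact (hom_comp_eqToHom c (Nat.add_comm 1 m) _ _ fun i => mul_comm _ _).symm
  refine ⟨_, w, shortExact_square _ _ R S w fun x => ?_⟩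
  rcases hcov x with h | h
  · exact Or.inl ⟨bijective_stalk_hom c α h,
      bijective_stalk_comp_eqToHom _ _ (bijective_stalk_mulSec c α (powS c α m) h (mem_locus_powS c α m h))⟩
  · exact Or.inr ⟨bijective_stalk_hom c _ (mem_locus_powS c β m h),
      bijective_stalk_mulSec c _ β (mem_locus_powS c β m h) h⟩

end GrothLib.JumpP1
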