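import Groth.Agent.Lib.JumpP1.Koszul
import Groth.Agent.Lib.RegSheaf.Pn
import Groth.Agent.Lib.RegSheaf.Seq
import Groth.Agent.Lib.FunMor20.Scalar
import Groth.Agent.Lib.K0Sub.LocFree
import Groth.Agent.Lib.Euler.RankAdd
import Groth.Agent.Lib.OX.SingleDegree
import Groth.Agent.Lib.OX.Tensor
import Groth.Agent.Lib.OX.LocFreeTensor

/-!
# A rank two family on the projective line with jumping splitting type
-/

set_option autoImplicit false
set_option maxHeartbeats 1000000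
set_option backward.isDefEq.respectTransparency false
set_option backward.isDefEq.respectTransparency.types false

universe u

open CategoryTheory CategoryTheory.Limits AlgebraicGeometry TopologicalSpace Opposite

noncomputable section

namespace GrothLib.JumpP1

open Formal (smulModΓ)

section Abstract

variable {C : Type*} [Category C] [Abelian C] {A B D : C}

/-- The cokernel of a lift with invertible first component. -/
theorem nonempty_cokernel_lift_of_isIso {A' : C} (s : A ⟶ A') [IsIso s] (f : A ⟶ B) :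
    Nonempty (cokernel (biprod.lift s f) ≅ B) := by
  refine ⟨{
    hom := cokernel.desc _ (biprod.desc (-(inv s ≫ f)) (𝟙 B)) (by simp [biprod.lift_desc])
    inv := biprod.inr ≫ cokernel.π _
    hom_inv_id := ?_
    inv_hom_id := by simp }⟩
  rw [← cancel_epi (cokernel.π (biprod.lift s f))]
  have h : biprod.inl ≫ cokernel.π (biprod.lift s f) = -(inv s ≫ f ≫ biprod.inr ≫ cokernel.π (biprod.lift s f)) := by
    rw [← cancel_epi s, eq_comm, Preadditive.comp_neg, IsIso.hom_inv_id_assoc, neg_eq_iff_add_eq_zero,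
      ← Category.assoc, ← Category.assoc, ← Preadditive.add_comp, add_comm, ← biprod.lift_eq, cokernel.condition]
  ext
  · simp [h]
  · simp

/-- The cokernel of a lift with zero first component. -/
theorem nonempty_cokernel_lift_zero (A' : C) (f : A ⟶ B) :
    Nonempty (cokernel (biprod.lift (0 : A ⟶ A') f) ≅ A' ⊞ cokernel f) := by
  refine ⟨{
    hom := cokernel.desc _ (biprod.map (𝟙 A') (cokernel.π f)) (by ext <;> simp)
    inv := biprod.desc (biprod.inl ≫ cokernel.π _) (cokernel.desc f (biprod.inr ≫ cokernel.π _) ?_)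
    hom_inv_id := ?_
    inv_hom_id := ?_ }⟩
  · have e : biprod.lift (0 : A ⟶ A') f = f ≫ biprod.inr := by ext <;> simp
    rw [← Category.assoc, ← e, cokernel.condition]
  · rw [← cancel_epi (cokernel.π (biprod.lift (0 : A ⟶ A') f))]
    ext <;> simp
  · ext <;> simp

/-- Twisting the middle of a short exact sequence by a map. -/
theorem exists_shortExact_cokernel_lift {S : ShortComplex C} (hS : S.ShortExact) {A' : C} (t : S.X₁ ⟶ A') :
    ∃ (q : cokernel (biprod.lift t S.f) ⟶ S.X₃)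
      (w : (biprod.inl ≫ cokernel.π (biprod.lift t S.f)) ≫ q = 0),
      (ShortComplex.mk (biprod.inl ≫ cokernel.π (biprod.lift t S.f)) q w).ShortExact := by
  haveI := hS.mono_f
  haveI := hS.epi_g
  let π := cokernel.π (biprod.lift t S.f)
  let q : cokernel (biprod.lift t S.f) ⟶ S.X₃ := cokernel.desc _ (biprod.snd ≫ S.g) (by simp)
  have hπ : π ≫ q = biprod.snd ≫ S.g := cokernel.π_desc _ _ _
  have w : (biprod.inl ≫ π) ≫ q = 0 := by
    rw [Category.assoc, hπ, biprod.inl_snd_assoc, zero_comp]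
  haveI : Epi q := by
    haveI : Epi (π ≫ q) := hπ ▸ epi_comp _ _
    exact epi_of_epi π q
  haveI : Mono (biprod.lift t S.f) := by
    haveI : Mono (biprod.lift t S.f ≫ biprod.snd) := by rw [biprod.lift_snd]; infer_instance
    exact mono_of_mono _ biprod.snd
  haveI : Mono (biprod.inl ≫ π) := Preadditive.mono_of_cancel_zero _ fun {W} x hx => by
    rw [← Category.assoc] at hx
    obtain ⟨y, hy⟩ := KernelFork.IsLimit.lift' (Abelian.monoIsKernelOfCokernel (CokernelCofork.ofπ π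
      (cokernel.condition (biprod.lift t S.f))) (cokernelIsCokernel _)) (x ≫ biprod.inl) hx
    have hy' : y ≫ biprod.lift t S.f = x ≫ biprod.inl := hy
    have h2 := congrArg (· ≫ biprod.snd) hy'
    simp only [Category.assoc, biprod.lift_snd, biprod.inl_snd, comp_zero] at h2
    have hy0 : y = 0 := zero_of_comp_mono S.f h2
    rw [hy0, zero_comp] at hy'
    simpa using (congrArg (· ≫ biprod.fst) hy'.symm)
  refine ⟨q, w, { exact := ShortComplex.exact_of_g_is_cokernel _ ?_ }⟩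
  refine CokernelCofork.IsColimit.ofπ' q w fun {W} l hl => ?_
  have h0 : biprod.inl ≫ (π ≫ l) = 0 := by rw [← Category.assoc]; exact hl
  have h1 : S.f ≫ (biprod.inr ≫ (π ≫ l)) = 0 := by
    have h : biprod.lift t S.f ≫ (π ≫ l) = 0 := by rw [← Category.assoc, cokernel.condition, zero_comp]
    have e := congrArg (fun φ => φ ≫ (π ≫ l)) (biprod.lift_eq (f := t) (g := S.f))
    simp only [Preadditive.add_comp, Category.assoc] at e
    rw [h, h0, comp_zero, zero_add] at e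
    exact e.symm
  refine ⟨hS.exact.desc _ h1, ?_⟩
  rw [← cancel_epi π, ← Category.assoc, hπ, Category.assoc, hS.exact.g_desc]
  ext
  · simpa using h0.symm
  · simp

end Abstract

section Scalars

variable {X : Scheme.{u}}

theorem smulModΓ_zero (M : X.Modules) : smulModΓ M (0 : Γ(X, ⊤)) = 0 := by
  refine Scheme.Modules.hom_ext _ _ fun U => ?_
  ext m
  rw [FunMor20.smulModΓ_app, map_zero, zero_smul]
  rfl

theorem smulModΓ_one (M : X.Modules) : smulModΓ M (1 : Γ(X, ⊤)) = 𝟙 M := by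
  refine Scheme.Modules.hom_ext _ _ fun U => ?_
  ext m
  rw [FunMor20.smulModΓ_app, map_one, one_smul]
  rfl

theorem smulModΓ_mul (M : X.Modules) (r s : Γ(X, ⊤)) :
    smulModΓ M r ≫ smulModΓ M s = smulModΓ M (s * r) := by
  refine Scheme.Modules.hom_ext _ _ fun U => ?_
  ext m
  show (smulModΓ M s).app U ((smulModΓ M r).app U m) = _
  rw [FunMor20.smulModΓ_app, FunMor20.smulModΓ_app, FunMor20.smulModΓ_app, map_mul, mul_smul]

theorem isIso_smulModΓ (M : X.Modules) {r : Γ(X, ⊤)} (h : IsUnit r) : IsIso (smulModΓ M r) := by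
  obtain ⟨s, hs⟩ := h.exists_right_inv
  refine ⟨smulModΓ M s, ?_, ?_⟩
  · rw [smulModΓ_mul, mul_comm, hs, smulModΓ_one]
  · rw [smulModΓ_mul, hs, smulModΓ_one]

theorem isFinLocFreeOfRank_two {S : ShortComplex X.Modules} (hS : S.ShortExact)
    (h₁ : FlatMod.IsFinLocFreeOfRank 1 S.X₁) (h₃ : FlatMod.IsFinLocFreeOfRank 1 S.X₃) :
    FlatMod.IsFinLocFreeOfRank 2 S.X₂ := by
  intro x
  obtain ⟨U, n, hxU, ⟨e⟩⟩ := K0Sub.isFinLocFree_ext S hS (FinCov.isFinLocFree_of_rank h₁)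
    (FinCov.isFinLocFree_of_rank h₃) x
  have hn := Euler.rank_add_of_shortExact (⟨x, hxU⟩ : U.toScheme)
    (hS.map_of_exact (Scheme.Modules.restrictFunctor U.ι))
    (OX.isFinLocFreeOfRank_restrict U.ι h₁)
    (OX.isFinLocFreeOfRank_of_iso e.symm (fun _ => ⟨⊤, trivial, ⟨DCoh.restrictFreeModIso _ n⟩⟩))
    (OX.isFinLocFreeOfRank_restrict U.ι h₃)
  exact ⟨U, hxU, ⟨e ≪≫ eqToIso (by rw [hn])⟩⟩

end Scalars

variable (T : Scheme.{u})

abbrev tw1 (d : ℤ) : (KRR.PY 1 T).Modules := Twist.twistOver 1 T d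

theorem nonempty_twist_iso_nat : ∀ m : ℕ, Nonempty ((RegSheaf.cT 1 T).twist m ≅ tw1 T m)
  | 0 => by
    obtain ⟨e⟩ := GrTilde.nonempty_structureModule_iso_twist_zero (CohB1.polyGrading 1 (ULift.{u} ℤ))
    obtain ⟨g⟩ := (RegSheaf.cT 1 T).nonempty_twist_zero
    exact ⟨g.symm ≪≫ (PicLoc.pullbackStructureIso _).symm ≪≫ (Scheme.Modules.pullback _).mapIso e⟩
  | m + 1 => by
    obtain ⟨g⟩ := nonempty_twist_iso_nat m
    obtain ⟨g1⟩ := RegSheaf.nonempty_twist_iso 1 T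
    obtain ⟨e⟩ := (RegSheaf.cT 1 T).nonempty_tensor_twist m 1
    obtain ⟨a⟩ := RegSheaf.nonempty_twist_add (n := 1) (T := T) (a := (m : ℤ)) (b := 1) (c := ((m + 1 : ℕ) : ℤ)) (by push_cast; ring)
    exact ⟨e.symm ≪≫ Ample.LineData.tensorModMapIso g g1.symm ≪≫ a⟩

theorem covers' (x : KRR.PY 1 T) :
    x ∈ (RegSheaf.cT 1 T).locus (RegSheaf.aT 1 T 0) ∨ x ∈ (RegSheaf.cT 1 T).locus (RegSheaf.aT 1 T 1) := by
  obtain ⟨l, hl, hx⟩ := RegSheaf.covers 1 T x
  rcases (show l = 0 ∨ l = 1 by omega) with rfl | rfl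
  exacts [Or.inl hx, Or.inr hx]

variable (i : ℕ) (r : Γ(KRR.PY 1 T, ⊤))

/-- The pair of coordinates `(x, y^(2i+1))`. -/
abbrev kz : Coh.structureModule (KRR.PY 1 T) ⟶
    (RegSheaf.cT 1 T).twist 1 ⊞ (RegSheaf.cT 1 T).twist (2 * i + 1) :=
  biprod.lift ((RegSheaf.cT 1 T).hom (RegSheaf.aT 1 T 0))
    ((RegSheaf.cT 1 T).hom (powS (RegSheaf.cT 1 T) (RegSheaf.aT 1 T 1) (2 * i + 1)))

/-- The untwisted family. -/
abbrev fam₀ : (KRR.PY 1 T).Modules :=
  cokernel (biprod.lift (smulModΓ (Coh.structureModule (KRR.PY 1 T)) r) (kz T i))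

/-- The family. -/
abbrev fam : (KRR.PY 1 T).Modules :=
  KRR.twF 1 T (-((i : ℤ) + 1)) (fam₀ T i r)

theorem isFinLocFreeOfRank_fam₀ : FlatMod.IsFinLocFreeOfRank 2 (fam₀ T i r) := by
  obtain ⟨g, w, hS⟩ := exists_koszul (RegSheaf.cT 1 T) (RegSheaf.aT 1 T 0) (RegSheaf.aT 1 T 1) (2 * i + 1)
    (covers' T)
  obtain ⟨q, w', hS'⟩ := exists_shortExact_cokernel_lift hS (smulModΓ (Coh.structureModule (KRR.PY 1 T)) r)
  exact isFinLocFreeOfRank_two hS' (Euler.isFinLocFreeOfRank_one' Euler.isInvertible_structure)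
    (Euler.isFinLocFreeOfRank_one' ((RegSheaf.cT 1 T).isInvertible_twist _))

theorem isFinLocFreeOfRank_fam : FlatMod.IsFinLocFreeOfRank 2 (fam T i r) := by
  have hM : FlatMod.IsFinLocFreeOfRank 1 (tw1 T (-((i : ℤ) + 1))) := Euler.isFinLocFreeOfRank_one'
    (Ample.isInvertible_pullback _ (GrTilde.isInvertible_twist RegSheaf.h1 _))
  have hN := isFinLocFreeOfRank_fam₀ T i r
  intro x
  obtain ⟨U, hxU, ⟨e⟩⟩ := hM x
  obtain ⟨V, hxV, ⟨j⟩⟩ := hN x
  obtain ⟨e'⟩ := DCoh.exists_free_restrict_le (inf_le_left : U ⊓ V ≤ U) e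
  obtain ⟨j'⟩ := DCoh.exists_free_restrict_le (inf_le_right : U ⊓ V ≤ V) j
  let P := Scheme.Modules.restrictFunctorIsoPullback (U ⊓ V).ι
  exact ⟨U ⊓ V, ⟨hxU, hxV⟩, ⟨P.app _ ≪≫ OX.pullTensorIso (U ⊓ V).ι _ _ ≪≫
    ((DCoh.tensorBi (X := (U ⊓ V : (KRR.PY 1 T).Opens).toScheme)).mapIso ((P.app _).symm ≪≫ e')).app _ ≪≫
    ((DCoh.tensorBi (X := (U ⊓ V : (KRR.PY 1 T).Opens).toScheme)).obj _).mapIso ((P.app _).symm ≪≫ j') ≪≫
    OX.tensorFreeIso _ 1 2⟩⟩

variable {T}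
variable {T' : Scheme.{u}} (ι : KRR.PY 1 T' ⟶ KRR.PY 1 T) (hι : ι ≫ RegSheaf.toZ 1 T = RegSheaf.toZ 1 T')

include hι in
theorem nonempty_pull_tw1 (d : ℤ) : Nonempty ((Scheme.Modules.pullback ι).obj (tw1 T d) ≅ tw1 T' d) :=
  ⟨(Scheme.Modules.pullbackComp ι (RegSheaf.toZ 1 T)).app _ ≪≫
    (Scheme.Modules.pullbackCongr hι).app (Twist.twistProjSpace 1 (ULift.{u} ℤ) d)⟩

theorem nonempty_twF_biprod (d a b : ℤ) {a' b' : ℤ} (ha : d + a = a') (hb : d + b = b') :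
    Nonempty (KRR.twF 1 T' d (tw1 T' a ⊞ tw1 T' b) ≅ tw1 T' a' ⊞ tw1 T' b') := by
  let L := (DCoh.tensorBi (X := KRR.PY 1 T')).obj (Twist.twistOver 1 T' d)
  have := preservesBinaryBiproducts_of_preservesBinaryCoproducts L
  obtain ⟨ea⟩ := RegSheaf.nonempty_twist_add (n := 1) (T := T') ha
  obtain ⟨eb⟩ := RegSheaf.nonempty_twist_add (n := 1) (T := T') hb
  exact ⟨L.mapBiprod _ _ ≪≫ biprod.mapIso ea eb⟩

include hι in
/-- The restriction of the family where the parameter is invertible, and where it vanishes. -/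
theorem nonempty_pull_fam :
    (IsUnit (ι.appTop r) →
      Nonempty ((Scheme.Modules.pullback ι).obj (fam T i r) ≅ tw1 T' (i : ℤ) ⊞ tw1 T' (-(i : ℤ)))) ∧
    (ι.appTop r = 0 →
      Nonempty ((Scheme.Modules.pullback ι).obj (fam T i r) ≅ tw1 T' ((i : ℤ) + 1) ⊞ tw1 T' (-((i : ℤ) + 1)))) := by
  let P := Scheme.Modules.pullback ι
  let d : ℤ := -((i : ℤ) + 1)
  have := preservesBinaryBiproducts_of_preservesBinaryCoproducts P
  let O := Coh.structureModule (KRR.PY 1 T)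
  let c := RegSheaf.cT 1 T
  let f := kz T i
  have e0 : P.obj (fam₀ T i r) ≅ cokernel (biprod.lift (smulModΓ (P.obj O) (ι.appTop r)) (P.map f)) :=
    PreservesCokernel.iso P _ ≪≫ cokernel.mapIso _ _ (Iso.refl _) (P.mapBiprod _ _) (by
      rw [Iso.refl_hom, Category.id_comp, biprod.map_lift_mapBiprod, FunMor20.pullback_map_smulModΓ])
  have e1 : P.obj (fam T i r) ≅ KRR.twF 1 T' d (P.obj (fam₀ T i r)) :=
    OX.pullTensorIso ι _ _ ≪≫
      ((DCoh.tensorBi (X := KRR.PY 1 T')).mapIso (nonempty_pull_tw1 ι hι d).some).app _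
  constructor
  · intro hu
    haveI := isIso_smulModΓ (P.obj O) hu
    obtain ⟨e2⟩ := nonempty_cokernel_lift_of_isIso (smulModΓ (P.obj O) (ι.appTop r)) (P.map f)
    obtain ⟨g1⟩ := nonempty_twist_iso_nat T 1
    obtain ⟨g2⟩ := nonempty_twist_iso_nat T (2 * i + 1)
    obtain ⟨q1⟩ := nonempty_pull_tw1 ι hι ((1 : ℕ) : ℤ)
    obtain ⟨q2⟩ := nonempty_pull_tw1 ι hι ((2 * i + 1 : ℕ) : ℤ)
    obtain ⟨h⟩ := nonempty_twF_biprod (T' := T') d ((2 * i + 1 : ℕ) : ℤ) ((1 : ℕ) : ℤ)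
      (a' := (i : ℤ)) (b' := -(i : ℤ)) (by simp only [d]; push_cast; ring) (by simp only [d]; push_cast; ring)
    let L := (DCoh.tensorBi (X := KRR.PY 1 T')).obj (Twist.twistOver 1 T' d)
    exact ⟨e1 ≪≫ L.mapIso (e0 ≪≫ e2 ≪≫ P.mapBiprod _ _ ≪≫
      biprod.mapIso (P.mapIso g1 ≪≫ q1) (P.mapIso g2 ≪≫ q2) ≪≫ biprod.braiding _ _) ≪≫ h⟩
  · intro h0
    have hs : smulModΓ (P.obj O) (ι.appTop r) = 0 := by rw [h0, smulModΓ_zero]
    obtain ⟨e2⟩ := nonempty_cokernel_lift_zero (P.obj O) (P.map f)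
    obtain ⟨g, w, hS⟩ := exists_koszul c (RegSheaf.aT 1 T 0) (RegSheaf.aT 1 T 1) (2 * i + 1) (covers' T)
    let e3 : cokernel (P.map f) ≅ P.obj (c.twist (2 * i + 1 + 1)) :=
      (PreservesCokernel.iso P f).symm ≪≫ P.mapIso
        ((cokernelIsCokernel f).coconePointUniqueUpToIso hS.gIsCokernel)
    obtain ⟨g1⟩ := nonempty_twist_iso_nat T 0
    obtain ⟨g0⟩ := c.nonempty_twist_zero
    obtain ⟨g2⟩ := nonempty_twist_iso_nat T (2 * i + 1 + 1)
    obtain ⟨q1⟩ := nonempty_pull_tw1 ι hι ((0 : ℕ) : ℤ)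
    obtain ⟨q2⟩ := nonempty_pull_tw1 ι hι ((2 * i + 1 + 1 : ℕ) : ℤ)
    obtain ⟨h⟩ := nonempty_twF_biprod (T' := T') d ((2 * i + 1 + 1 : ℕ) : ℤ) ((0 : ℕ) : ℤ)
      (a' := (i : ℤ) + 1) (b' := -((i : ℤ) + 1)) (by simp only [d]; push_cast; ring) (by simp only [d]; push_cast; ring)
    let L := (DCoh.tensorBi (X := KRR.PY 1 T')).obj (Twist.twistOver 1 T' d)
    exact ⟨e1 ≪≫ L.mapIso (e0 ≪≫ cokernelIsoOfEq (by rw [hs]) ≪≫ e2 ≪≫
      biprod.mapIso (P.mapIso (g0 ≪≫ g1) ≪≫ q1) (e3 ≪≫ P.mapIso g2 ≪≫ q2) ≪≫ biprod.braiding _ _) ≪≫ h⟩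

end GrothLib.JumpP1
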